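import Cfsg.Agent.Schur.SylowCover

/-!
# Lifting `p`-elements along central extensions with kernel of order prime to `p`
-/

set_option autoImplicit false

namespace CfsgLib.Schur

universe u v

variable {G : Type u} [Group G] {Γ : Type v} [Group Γ]

/-- The kernel of a stem extension has order prime to `p` as soon as there is no cover of degree
`p` with kernel in the commutator subgroup. -/
theorem not_dvd_card_ker [Finite Γ] {σ : Γ →* G} (hσ : Cfsg.IsStemExtension σ) {p : ℕ}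
    (hp : p.Prime)
    (h : ∀ (Δ : Type v) [Group Δ] [Finite Δ] (τ : Δ →* G) (e : Δ),
      PrimeCover τ e p → e ∈ commutator Δ → False) : ¬ p ∣ Nat.card σ.ker := by
  classical
  intro hdvd
  obtain ⟨hs, hc, hst⟩ := hσ
  haveI := Fact.mk hp
  have hcomm : ∀ x y : σ.ker, x * y = y * x := fun x y =>
    Subtype.ext (Subgroup.mem_center_iff.mp (hc y.2) x)
  letI : CommGroup σ.ker := { (inferInstance : Group σ.ker) with mul_comm := hcomm }
  let φ : σ.ker →* σ.ker := powMonoidHom p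
  have hφ : φ.range ≠ ⊤ := by
    intro htop
    obtain ⟨x, hx⟩ := exists_prime_orderOf_dvd_card' p hdvd
    have hinj : Function.Injective φ :=
      Finite.injective_iff_surjective.mpr (MonoidHom.range_eq_top.mp htop)
    have : φ x = φ 1 := by rw [map_one, powMonoidHom_apply, ← hx, pow_orderOf_eq_one]
    rw [hinj this, orderOf_one] at hx
    exact hp.ne_one hx.symm
  obtain ⟨K0, hK0, hle⟩ := (eq_top_or_exists_le_coatom φ.range).resolve_left hφ
  set K : Subgroup Γ := K0.map σ.ker.subtype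
  have hKc : K ≤ Subgroup.center Γ := (Subgroup.map_subtype_le _).trans hc
  haveI : K.Normal := ⟨fun x hx g => by
    rwa [show g * x * g⁻¹ = x by rw [Subgroup.mem_center_iff.mp (hKc hx) g, mul_inv_cancel_right]]⟩
  have hKker : K ≤ σ.ker := Subgroup.map_subtype_le _
  let π := QuotientGroup.mk' K
  let τ : Γ ⧸ K →* G := QuotientGroup.lift K σ hKker
  obtain ⟨x, hx⟩ : ∃ x : σ.ker, x ∉ K0 := by
    by_contra hcon
    push Not at hcon
    exact hK0.1 (eq_top_iff.mpr fun y _ => hcon y)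
  have hxK : (x : Γ) ∉ K := by
    rintro ⟨y, hy, hyx⟩
    exact hx (Subtype.coe_injective hyx ▸ hy)
  refine h (Γ ⧸ K) τ (π x) ⟨fun g => ?_, fun u hu => ?_, ?_, ?_⟩ ?_
  · obtain ⟨y, rfl⟩ := hs g
    exact ⟨π y, rfl⟩
  · obtain ⟨y, rfl⟩ := QuotientGroup.mk'_surjective K u
    refine Subgroup.mem_center_iff.mpr fun v => ?_
    obtain ⟨z, rfl⟩ := QuotientGroup.mk'_surjective K v
    rw [← map_mul, ← map_mul, Subgroup.mem_center_iff.mp (hc (show y ∈ σ.ker from hu)) z]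
  · refine orderOf_eq_prime ?_ fun h1 => hxK ((QuotientGroup.eq_one_iff _).mp h1)
    rw [← map_pow, ← Subgroup.coe_pow]
    exact (QuotientGroup.eq_one_iff _).mpr ⟨x ^ p, hle ⟨x, rfl⟩, rfl⟩
  · refine le_antisymm (fun u hu => ?_) (Subgroup.zpowers_le.2 x.2)
    obtain ⟨y, rfl⟩ := QuotientGroup.mk'_surjective K u
    have htop : K0 ⊔ Subgroup.zpowers x = ⊤ :=
      hK0.2 _ (lt_of_le_of_ne le_sup_left fun h1 =>
        hx (h1 ▸ Subgroup.mem_sup_right (Subgroup.mem_zpowers x)))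
    obtain ⟨k, hk, z, ⟨i, rfl⟩, hkz⟩ :=
      Subgroup.mem_sup.mp (htop ▸ Subgroup.mem_top (⟨y, hu⟩ : σ.ker) :
        (⟨y, hu⟩ : σ.ker) ∈ K0 ⊔ Subgroup.zpowers x)
    have h1 : π y = π x ^ i := by
      rw [show y = (k : Γ) * (x : Γ) ^ i by
        rw [← Subgroup.coe_zpow, ← Subgroup.coe_mul]; exact (congrArg Subtype.val hkz).symm]
      rw [map_mul, map_zpow, show π (k : Γ) = 1 from (QuotientGroup.eq_one_iff _).mpr ⟨k, hk, rfl⟩, one_mul]
    exact ⟨i, h1.symm⟩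
  · have h1 : (commutator Γ).map π ≤ commutator (Γ ⧸ K) := by
      rw [commutator_def, commutator_def, Subgroup.map_commutator]
      exact Subgroup.commutator_mono le_top le_top
    exact h1 ⟨x, hst x.2, rfl⟩

/-- An element of `p`-power order. -/
def IsPEl (p : ℕ) (g : Γ) : Prop := ∃ n, g ^ p ^ n = 1

variable [Finite Γ] {σ : Γ →* G} {p : ℕ} [hp : Fact p.Prime] (hs : Function.Surjective σ)
  (hc : σ.ker ≤ Subgroup.center Γ) (hn : ¬ p ∣ Nat.card σ.ker)
include hc hn hp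

theorem eq_one_of_pel {z : Γ} (hz : z ∈ σ.ker) (h : IsPEl p z) : z = 1 := by
  obtain ⟨n, hn'⟩ := h
  have h1 : orderOf (⟨z, hz⟩ : σ.ker) ∣ p ^ n := orderOf_dvd_of_pow_eq_one (Subtype.ext hn')
  have h2 : orderOf (⟨z, hz⟩ : σ.ker) ∣ Nat.card σ.ker := orderOf_dvd_natCard _
  have h3 : orderOf (⟨z, hz⟩ : σ.ker) = 1 :=
    Nat.eq_one_of_dvd_coprimes (Nat.Coprime.pow_left n ((Nat.Prime.coprime_iff_not_dvd hp.out).2 hn)) h1 h2
  exact congrArg Subtype.val (orderOf_eq_one_iff.1 h3)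

include hs in
/-- Every `p`-element has a lift of `p`-power order. -/
theorem exists_pel {g : G} (hg : IsPEl p g) : ∃ y, σ y = g ∧ IsPEl p y := by
  obtain ⟨n, hn'⟩ := hg
  obtain ⟨y, rfl⟩ := hs g
  have hz : y ^ p ^ n ∈ σ.ker := by rw [MonoidHom.mem_ker, map_pow, hn']
  have hcop : (orderOf (⟨_, hz⟩ : σ.ker)).Coprime (p ^ n) :=
    (Nat.Coprime.pow_left n ((Nat.Prime.coprime_iff_not_dvd hp.out).2 hn)).symm.coprime_dvd_left
      (orderOf_dvd_natCard _)
  obtain ⟨j, hj⟩ := exists_pow_eq_self_of_coprime hcop.symm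
  set z : σ.ker := (⟨_, hz⟩ : σ.ker) ^ j
  have hz' : (z : Γ) ^ p ^ n = y ^ p ^ n := by
    rw [← Subgroup.coe_pow, ← pow_mul, mul_comm, pow_mul]
    exact congrArg Subtype.val hj
  refine ⟨y * (z : Γ)⁻¹, by rw [map_mul, map_inv, MonoidHom.mem_ker.1 z.2, inv_one, mul_one], n, ?_⟩
  have hcy : Commute y (z : Γ)⁻¹ := Subgroup.mem_center_iff.1 (inv_mem (hc z.2)) y
  rw [hcy.mul_pow, inv_pow, hz', mul_inv_cancel]

/-- The `p`-elements over a `p`-subgroup form a subgroup. -/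
theorem pel_mul {P : Subgroup G} (hP : IsPGroup p P) [Finite G] {g g' : Γ} (hg : σ g ∈ P)
    (hg' : σ g' ∈ P) (h : IsPEl p g) (h' : IsPEl p g') : IsPEl p (g * g') := by
  classical
  set H : Subgroup Γ := P.comap σ
  set A : Subgroup H := σ.ker.subgroupOf H
  have hAc : ∀ (a : A) (x : H), x * (a : H) = (a : H) * x := fun a x =>
    Subtype.ext (Subgroup.mem_center_iff.1 (hc a.2) x)
  letI : CommGroup A :=
    { (inferInstance : Group A) with mul_comm := fun a b => Subtype.ext (hAc b a) }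
  let f : A →* A := MonoidHom.id A
  obtain ⟨k, hk⟩ : ∃ k, A.index = p ^ k := by
    obtain ⟨k, hk⟩ := IsPGroup.iff_card.1 hP
    have h1 : A = (σ.subgroupComap P).ker := by
      ext x
      simp only [A, Subgroup.mem_subgroupOf, MonoidHom.mem_ker]
      exact ⟨fun e => Subtype.ext e, fun e => congrArg Subtype.val e⟩
    rw [h1, Subgroup.index_ker]
    obtain ⟨l, -, hl⟩ := (Nat.dvd_prime_pow hp.out).1 (hk ▸ Subgroup.card_subgroup_dvd_card (σ.subgroupComap P).range)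
    exact ⟨l, hl⟩
  have hkey : ∀ x : H, ∀ k₀ : ℕ, ∀ g₀ : H, g₀⁻¹ * x ^ k₀ * g₀ ∈ A → g₀⁻¹ * x ^ k₀ * g₀ = x ^ k₀ := by
    intro x k₀ g₀ hA
    have h1 := hAc ⟨_, hA⟩ g₀
    calc g₀⁻¹ * x ^ k₀ * g₀ = g₀ * (g₀⁻¹ * x ^ k₀ * g₀) * g₀⁻¹ := by rw [h1, mul_inv_cancel_right]
      _ = x ^ k₀ := by group
  set V := MonoidHom.transfer f
  have hV : ∀ x : H, ((V x : A) : H) = x ^ A.index := fun x => by
    rw [show V x = _ from MonoidHom.transfer_eq_pow f x (hkey x)]
    rfl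
  have hpel : ∀ x : H, IsPEl p (x : Γ) → x ^ A.index = 1 := fun x hx => by
    obtain ⟨n, hn'⟩ := hx
    refine Subtype.ext (eq_one_of_pel hc hn (z := ((x ^ A.index : H) : Γ)) ?_ ⟨n, ?_⟩)
    · have := (V x).2
      rw [hV] at this
      exact this
    · rw [← Subgroup.coe_pow, ← pow_mul, mul_comm, pow_mul,
        show x ^ p ^ n = 1 from Subtype.ext hn', one_pow]
      rfl
  refine ⟨k, ?_⟩
  have hx := hpel ⟨g, hg⟩ h
  have hy := hpel ⟨g', hg'⟩ h'
  rw [← hV] at hx hy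
  have hxy : ((V (⟨g, hg⟩ * ⟨g', hg'⟩) : A) : H) = 1 := by
    rw [map_mul, Subgroup.coe_mul, hx, hy, mul_one]
  rw [hV, hk] at hxy
  exact congrArg Subtype.val hxy

omit hc hn hp in
theorem pel_inv {g : Γ} (h : IsPEl p g) : IsPEl p g⁻¹ := by
  obtain ⟨n, hn'⟩ := h
  exact ⟨n, by rw [inv_pow, hn', inv_one]⟩

/-- The `p`-elements over a `p`-subgroup. -/
def pelLift {P : Subgroup G} (hP : IsPGroup p P) [Finite G] : Subgroup Γ where
  carrier := {g | σ g ∈ P ∧ IsPEl p g}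
  one_mem' := ⟨by rw [map_one]; exact one_mem P, 0, one_pow _⟩
  mul_mem' := fun {a b} ha hb => ⟨by rw [map_mul]; exact mul_mem ha.1 hb.1,
    pel_mul hc hn hP ha.1 hb.1 ha.2 hb.2⟩
  inv_mem' := fun {a} ha => ⟨by rw [map_inv]; exact inv_mem ha.1, pel_inv ha.2⟩

theorem pelLift_injOn {P : Subgroup G} (hP : IsPGroup p P) [Finite G] {g g' : Γ}
    (hg : g ∈ pelLift hc hn hP) (hg' : g' ∈ pelLift hc hn hP) (e : σ g = σ g') : g = g' := by
  refine inv_mul_eq_one.1 (eq_one_of_pel hc hn ?_ (mul_mem (inv_mem hg) hg').2)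
  rw [MonoidHom.mem_ker, map_mul, map_inv, e, inv_mul_cancel]

end CfsgLib.Schur
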