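import Cfsg.Agent.Schur.Stemify

/-!
# Pullbacks of central extensions
-/

namespace CfsgLib.Schur

universe u v w

section Pullback

variable {X : Type v} {Y : Type w} {Q : Type u} [Group X] [Group Y] [Group Q]

/-- The fibre product of two homomorphisms. -/
def pullback (f : X →* Q) (g : Y →* Q) : Subgroup (X × Y) :=
  (f.comp (MonoidHom.fst X Y)).eqLocus (g.comp (MonoidHom.snd X Y))

theorem mem_pullback {f : X →* Q} {g : Y →* Q} {z : X × Y} : z ∈ pullback f g ↔ f z.1 = g z.2 :=
  Iff.rfl

/-- First projection. -/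
def pfst (f : X →* Q) (g : Y →* Q) : pullback f g →* X :=
  (MonoidHom.fst X Y).comp (pullback f g).subtype

/-- Second projection. -/
def psnd (f : X →* Q) (g : Y →* Q) : pullback f g →* Y :=
  (MonoidHom.snd X Y).comp (pullback f g).subtype

theorem pfst_surjective {f : X →* Q} {g : Y →* Q} (hg : Function.Surjective g) :
    Function.Surjective (pfst f g) := fun x => by
  obtain ⟨y, hy⟩ := hg (f x)
  exact ⟨⟨(x, y), hy.symm⟩, rfl⟩

theorem psnd_surjective {f : X →* Q} {g : Y →* Q} (hf : Function.Surjective f) :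
    Function.Surjective (psnd f g) := fun y => by
  obtain ⟨x, hx⟩ := hf (g y)
  exact ⟨⟨(x, y), hx⟩, rfl⟩

theorem pfst_ker_le_center {f : X →* Q} {g : Y →* Q} (hg : g.ker ≤ Subgroup.center Y) :
    (pfst f g).ker ≤ Subgroup.center (pullback f g) := by
  intro z hz
  have h1 : (z : X × Y).1 = 1 := hz
  have h2 : (z : X × Y).2 ∈ g.ker := by
    have := z.2
    rw [mem_pullback, h1, map_one] at this
    exact this.symm
  refine Subgroup.mem_center_iff.2 fun t => Subtype.ext (Prod.ext ?_ ?_)
  · change (t : X × Y).1 * (z : X × Y).1 = (z : X × Y).1 * (t : X × Y).1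
    rw [h1, mul_one, one_mul]
  · exact Subgroup.mem_center_iff.1 (hg h2) _

theorem base_ker_le_center {f : X →* Q} {g : Y →* Q} (hf : f.ker ≤ Subgroup.center X)
    (hg : g.ker ≤ Subgroup.center Y) :
    (f.comp (pfst f g)).ker ≤ Subgroup.center (pullback f g) := by
  intro z hz
  have h1 : (z : X × Y).1 ∈ f.ker := hz
  have h2 : (z : X × Y).2 ∈ g.ker := by
    have := z.2
    rw [mem_pullback, MonoidHom.mem_ker.1 h1] at this
    exact this.symm
  exact Subgroup.mem_center_iff.2 fun t =>
    Subtype.ext (Prod.ext (Subgroup.mem_center_iff.1 (hf h1) _) (Subgroup.mem_center_iff.1 (hg h2) _))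

theorem map_commutator_surjective {A : Type v} {B : Type w} [Group A] [Group B] (f : A →* B)
    (hf : Function.Surjective f) : (commutator A).map f = commutator B := by
  rw [commutator_def, commutator_def, Subgroup.map_commutator, Subgroup.map_top_of_surjective _ hf]

theorem exists_mem_commutator_lift {A : Type v} {B : Type w} [Group A] [Group B] (f : A →* B)
    (hf : Function.Surjective f) {b : B} (hb : b ∈ commutator B) :
    ∃ a ∈ commutator A, f a = b := by
  rw [← map_commutator_surjective f hf] at hb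
  exact Subgroup.mem_map.1 hb

/-- If the commutator subgroup of the pullback meets the kernel of the first projection trivially,
the second kernel is an image of the first one. -/
theorem exists_surj_ker {f : X →* Q} {g : Y →* Q} (hf : Cfsg.IsStemExtension f)
    (hg : Cfsg.IsStemExtension g)
    (h : ∀ z : pullback f g, z ∈ commutator (pullback f g) → (z : X × Y).1 = 1 → (z : X × Y).2 = 1) :
    ∃ π : f.ker →* g.ker, Function.Surjective π := by
  have hex : ∀ s : f.ker, ∃ z : pullback f g, z ∈ commutator (pullback f g) ∧ (z : X × Y).1 = s :=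
    fun s => exists_mem_commutator_lift (pfst f g) (pfst_surjective hg.1) (hf.2.2 s.2)
  choose z hz hz' using hex
  have hmem : ∀ s, (z s : X × Y).2 ∈ g.ker := fun s => by
    have := (z s).2
    rw [mem_pullback, hz', MonoidHom.mem_ker.1 s.2] at this
    exact this.symm
  have huniq : ∀ (s : f.ker) (y : pullback f g), y ∈ commutator (pullback f g) →
      (y : X × Y).1 = s → (y : X × Y).2 = (z s : X × Y).2 := by
    intro s y hy hy'
    have := h (y * (z s)⁻¹) (mul_mem hy (inv_mem (hz s)))
      (by change (y : X × Y).1 * (z s : X × Y).1⁻¹ = 1; rw [hy', hz', mul_inv_cancel])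
    exact mul_inv_eq_one.1 this
  refine ⟨MonoidHom.mk' (fun s => ⟨_, hmem s⟩) (fun s t => Subtype.ext ?_), fun t => ?_⟩
  · exact (huniq (s * t) (z s * z t) (mul_mem (hz s) (hz t))
      (by change (z s : X × Y).1 * (z t : X × Y).1 = _; rw [hz', hz']; rfl)).symm
  · obtain ⟨y, hy, hy'⟩ := exists_mem_commutator_lift (psnd f g) (psnd_surjective hf.1) (hg.2.2 t.2)
    have hy1 : (y : X × Y).1 ∈ f.ker := by
      refine MonoidHom.mem_ker.2 ?_
      exact (mem_pullback.1 y.2).trans ((congrArg g hy').trans (MonoidHom.mem_ker.1 t.2))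
    exact ⟨⟨_, hy1⟩, Subtype.ext ((huniq ⟨_, hy1⟩ y hy rfl).symm.trans hy')⟩

end Pullback

/-- For a stem extension of maximal order, commutators of the pullback with any finite central
extension are determined by their first coordinate. -/
theorem cover_pullback {Q : Type u} [Group Q] {A : Type w} [CommGroup A]
    (hA : Cfsg.HasSchurMultiplier Q A) {X : Type v} [Group X] [Finite X] {σ : X →* Q}
    (hσ : Cfsg.IsStemExtension σ) (hk : Nonempty (σ.ker ≃* A)) {Y : Type u} [Group Y] [Finite Y]
    (τ : Y →* Q) (hτs : Function.Surjective τ) (hτc : τ.ker ≤ Subgroup.center Y)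
    (z : pullback σ τ) (hz : z ∈ commutator (pullback σ τ)) (hz1 : (z : X × Y).1 = 1) :
    (z : X × Y).2 = 1 := by
  obtain ⟨e⟩ := hk
  let φ : pullback σ τ →* Q := σ.comp (pfst σ τ)
  obtain ⟨π, hπ⟩ := exists_surj_central hA φ (hσ.1.comp (pfst_surjective hτs))
    (base_ker_le_center hσ.2.1 hτc)
  let T : Subgroup (pullback σ τ) := φ.ker ⊓ commutator (pullback σ τ)
  let p : T →* σ.ker := ((pfst σ τ).comp T.subtype).codRestrict σ.ker fun t => t.2.1
  have hp : Function.Surjective p := fun s => by
    obtain ⟨y, hy, hys⟩ := exists_mem_commutator_lift (pfst σ τ) (pfst_surjective hτs) (hσ.2.2 s.2)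
    refine ⟨⟨y, MonoidHom.mem_ker.2 ?_, hy⟩, Subtype.ext hys⟩
    change σ (pfst σ τ y) = 1
    rw [hys]
    exact MonoidHom.mem_ker.1 s.2
  have : Finite A := finite_multiplier hA
  have hcard : Nat.card T ≤ Nat.card σ.ker :=
    (Nat.card_le_card_of_surjective π hπ).trans_eq (Nat.card_congr e.toEquiv).symm
  have hinj : Function.Injective p :=
    ((Nat.bijective_iff_surjective_and_card p).2
      ⟨hp, le_antisymm hcard (Nat.card_le_card_of_surjective p hp)⟩).1
  have hzT : z ∈ T := ⟨MonoidHom.mem_ker.2 (by change σ (z : X × Y).1 = 1; rw [hz1, map_one]), hz⟩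
  have := hinj (a₁ := ⟨z, hzT⟩) (a₂ := 1) (Subtype.ext hz1)
  exact congrArg (fun t : T => ((t : pullback σ τ) : X × Y).2) this

end CfsgLib.Schur
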