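import Cfsg.Agent.Schur.Basic

/-!
# Every finite central extension yields a stem extension with kernel `ker ⊓ commutator`
-/

namespace CfsgLib.Schur

universe u v w

/-- A divisible abelian group receiving an embedding of `W`. -/
abbrev Hull (W : Type v) [CommGroup W] : Type v :=
  Multiplicative (CharacterModule (Additive W) → AddCircle (1 : ℚ))

/-- The embedding of an abelian group in its hull. -/
noncomputable def toHull (W : Type v) [CommGroup W] : W →* Hull W :=
  MonoidHom.mk' (fun w => Multiplicative.ofAdd fun χ => χ (Additive.ofMul w)) fun a b => by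
    rw [← ofAdd_add]
    exact congrArg Multiplicative.ofAdd (funext fun χ => map_add χ (Additive.ofMul a) (Additive.ofMul b))

theorem toHull_injective (W : Type v) [CommGroup W] : Function.Injective (toHull W) := by
  rw [← MonoidHom.ker_eq_bot_iff, eq_bot_iff]
  intro w hw
  refine Subgroup.mem_bot.2 (Additive.ofMul.injective ?_)
  refine CharacterModule.eq_zero_of_character_apply fun χ => ?_
  exact congrFun (congrArg Multiplicative.toAdd (MonoidHom.mem_ker.1 hw : toHull W w = 1)) χ

theorem hull_root {W : Type v} [CommGroup W] (n : ℤ) (hn : n ≠ 0) (x : Hull W) :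
    ∃ y : Hull W, y ^ n = x :=
  ⟨Multiplicative.ofAdd fun χ => DivisibleBy.div (Multiplicative.toAdd x χ) n, by
    rw [← ofAdd_zsmul]
    exact congrArg Multiplicative.ofAdd (funext fun χ => DivisibleBy.div_cancel _ hn)⟩

/-- Extension of homomorphisms into abelian groups with roots. -/
theorem exists_extension {A : Type v} {B : Type w} [CommGroup A] [CommGroup B] {D : Type u}
    [CommGroup D] (hD : ∀ n : ℤ, n ≠ 0 → ∀ x : D, ∃ y : D, y ^ n = x) (i : A →* B)
    (hi : Function.Injective i) (f : A →* D) : ∃ g : B →* D, ∀ a, g (i a) = f a := by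
  classical
  let inst : DivisibleBy (Additive D) ℤ :=
    { div := fun x n => if hn : n = 0 then 0 else Additive.ofMul (hD n hn x.toMul).choose
      div_zero := fun x => by simp
      div_cancel := fun {n} x hn => by
        simp only [dif_neg hn, ← ofMul_zpow]
        exact congrArg Additive.ofMul (hD n hn x.toMul).choose_spec }
  obtain ⟨g, hg⟩ := (Module.Baer.of_divisible (Additive D)).extension_property_addMonoidHom
    i.toAdditive hi f.toAdditive
  exact ⟨MonoidHom.toAdditive.symm g,
    fun a => congrArg Additive.toMul (DFunLike.congr_fun hg (Additive.ofMul a))⟩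

theorem exists_extension_hull_quot {A : Type v} {B : Type w} [CommGroup A] [CommGroup B]
    {W : Type u} [CommGroup W] (N : Subgroup (Hull W)) (i : A →* B)
    (hi : Function.Injective i) (f : A →* Hull W ⧸ N) : ∃ g : B →* Hull W ⧸ N, ∀ a, g (i a) = f a := by
  refine exists_extension (fun n hn x => ?_) i hi f
  obtain ⟨x, rfl⟩ := QuotientGroup.mk'_surjective N x
  obtain ⟨y, hy⟩ := hull_root n hn x
  exact ⟨QuotientGroup.mk' N y, by rw [← map_zpow, hy]⟩

/- **Stemification**: a finite central extension `φ : P → Q` yields a stem extension of `Q`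
whose kernel is isomorphic to `φ.ker ⊓ commutator P`. -/
/-- The twisted product: the core of stemification. -/
theorem exists_stem_of_twist {P : Type v} {Q : Type u} [Group P] [Group Q] [Finite P] (φ : P →* Q)
    (hs : Function.Surjective φ) (hc : φ.ker ≤ Subgroup.center P) {C D : Type w} [CommGroup C]
    [CommGroup D] (q : C →* D) (hq : Function.Surjective q) (e : φ.ker →* C)
    (he : Function.Injective e) (θ : P →* D) (hθ : ∀ w : φ.ker, θ (w : P) = q (e w))
    (hker : ∀ c, q c = 1 → ∃ t : φ.ker, (t : P) ∈ commutator P ∧ e t = c) :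
    ∃ (Γ : Type u) (_ : Group Γ) (_ : Finite Γ) (σ : Γ →* Q), Cfsg.IsStemExtension σ ∧
      Nonempty (σ.ker ≃* ↥(φ.ker ⊓ commutator P)) := by
  have : Finite Q := Finite.of_surjective φ hs
  let χ : P × C →* D := (θ.comp (MonoidHom.fst P C)) * (q.comp (MonoidHom.snd P C))
  let H := χ.ker
  let d : φ.ker →* P × C := MonoidHom.prod φ.ker.subtype e⁻¹
  have hd : ∀ w, d w ∈ H := fun w => by
    change θ (w : P) * q (e w)⁻¹ = 1
    rw [hθ w, map_inv, mul_inv_cancel]
  let d' : φ.ker →* H := d.codRestrict H hd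
  have hdc : d'.range ≤ Subgroup.center H := by
    rintro x ⟨w, rfl⟩
    exact Subgroup.mem_center_iff.2 fun g =>
      Subtype.ext (Prod.ext (Subgroup.mem_center_iff.1 (hc w.2) _) (mul_comm _ _))
  have hdn : d'.range.Normal := ⟨fun x hx g => by
    rw [Subgroup.mem_center_iff.1 (hdc hx) g, mul_inv_cancel_right]; exact hx⟩
  let fst : H →* P := (MonoidHom.fst P C).comp H.subtype
  let snd : H →* C := (MonoidHom.snd P C).comp H.subtype
  have hp : d'.range ≤ (φ.comp fst).ker := by
    rintro x ⟨w, rfl⟩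
    exact MonoidHom.mem_ker.2 (MonoidHom.mem_ker.1 w.2)
  let σ : H ⧸ d'.range →* Q := QuotientGroup.lift d'.range (φ.comp fst) hp
  have hlift : Function.Surjective fst := by
    intro x
    obtain ⟨c, hc'⟩ := hq (θ x)⁻¹
    refine ⟨⟨(x, c), ?_⟩, rfl⟩
    change θ x * q c = 1
    rw [hc', mul_inv_cancel]
  have hsσ : Function.Surjective σ := fun y => by
    obtain ⟨x, rfl⟩ := hs y
    obtain ⟨h, hh⟩ := hlift x
    exact ⟨(h : H ⧸ d'.range), congrArg φ hh⟩
  have hθc : ∀ x ∈ commutator P, θ x = 1 :=
    fun x hx => MonoidHom.mem_ker.1 (Abelianization.commutator_subset_ker θ hx)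
  have hTmem : ∀ t : ↥(φ.ker ⊓ commutator P), ((t : P), (1 : C)) ∈ H := by
    intro t
    change θ (t : P) * q 1 = 1
    rw [map_one, mul_one, hθc _ t.2.2]
  let j0 : ↥(φ.ker ⊓ commutator P) →* H :=
    (MonoidHom.prod (φ.ker ⊓ commutator P).subtype 1).codRestrict H hTmem
  let j : ↥(φ.ker ⊓ commutator P) →* σ.ker :=
    ((QuotientGroup.mk' d'.range).comp j0).codRestrict σ.ker fun t => MonoidHom.mem_ker.2 t.2.1
  have hj : Function.Bijective j := by
    constructor
    · rw [← MonoidHom.ker_eq_bot_iff, eq_bot_iff]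
      intro t ht
      have ht' : ((j0 t : H) : H ⧸ d'.range) = 1 := congrArg Subtype.val (MonoidHom.mem_ker.1 ht)
      obtain ⟨w, hw⟩ := (QuotientGroup.eq_one_iff _).1 ht'
      have h1 : (e w)⁻¹ = 1 := congrArg snd hw
      have h2 : (w : P) = (t : P) := congrArg fst hw
      have h3 : w = 1 := he (by rw [map_one]; exact inv_eq_one.1 h1)
      refine Subgroup.mem_bot.2 (Subtype.ext ?_)
      rw [← h2, h3]
      rfl
    · rintro ⟨x, hx⟩
      obtain ⟨⟨⟨z, c⟩, hzc⟩, rfl⟩ := QuotientGroup.mk'_surjective _ x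
      have hz : z ∈ φ.ker := hx
      have h1 : q (e ⟨z, hz⟩ * c) = 1 := by
        rw [map_mul, ← hθ ⟨z, hz⟩]
        exact hzc
      obtain ⟨t, ht, htc⟩ := hker _ h1
      refine ⟨⟨(t : P), t.2, ht⟩, Subtype.ext ?_⟩
      refine QuotientGroup.eq.2 ⟨t⁻¹ * ⟨z, hz⟩, Subtype.ext (Prod.ext rfl ?_)⟩
      change (e (t⁻¹ * ⟨z, hz⟩))⁻¹ = 1⁻¹ * c
      rw [inv_one, one_mul, map_mul, map_inv, mul_inv, inv_inv, htc, mul_right_comm, mul_inv_cancel,
        one_mul]
  let jE := MulEquiv.ofBijective j hj
  have : Finite σ.ker := Finite.of_equiv _ jE.toEquiv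
  have : Finite ((H ⧸ d'.range) ⧸ σ.ker) :=
    Finite.of_injective (QuotientGroup.kerLift σ) (QuotientGroup.kerLift_injective σ)
  have : Finite (H ⧸ d'.range) :=
    Finite.of_equiv (((H ⧸ d'.range) ⧸ σ.ker) × σ.ker) Subgroup.groupEquivQuotientProdSubgroup.symm
  have hstem : Cfsg.IsStemExtension σ := by
    refine ⟨hsσ, fun x hx => ?_, fun x hx => ?_⟩
    · obtain ⟨t, ht⟩ := hj.2 ⟨x, hx⟩
      obtain rfl : QuotientGroup.mk' d'.range (j0 t) = x := congrArg Subtype.val ht
      refine Subgroup.mem_center_iff.2 fun y => ?_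
      obtain ⟨h, rfl⟩ := QuotientGroup.mk'_surjective _ y
      rw [← map_mul, ← map_mul]
      congr 1
      exact Subtype.ext (Prod.ext (Subgroup.mem_center_iff.1 (hc t.2.1) _) (mul_comm _ _))
    · obtain ⟨t, ht⟩ := hj.2 ⟨x, hx⟩
      obtain rfl : QuotientGroup.mk' d'.range (j0 t) = x := congrArg Subtype.val ht
      have hmap : (commutator H).map fst = commutator P := by
        rw [commutator_def, commutator_def, Subgroup.map_commutator,
          Subgroup.map_top_of_surjective _ hlift]
      have htmem : (t : P) ∈ (commutator H).map fst := by rw [hmap]; exact t.2.2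
      obtain ⟨h, hh, hht⟩ := Subgroup.mem_map.1 htmem
      have h2 : snd h = 1 := MonoidHom.mem_ker.1 (Abelianization.commutator_subset_ker snd hh)
      have : j0 t = h := Subtype.ext (Prod.ext hht.symm h2.symm)
      rw [this]
      have hle : (commutator H).map (QuotientGroup.mk' d'.range) ≤ commutator (H ⧸ d'.range) := by
        rw [commutator_def, commutator_def, Subgroup.map_commutator]
        exact Subgroup.commutator_mono le_top le_top
      exact hle (Subgroup.mem_map_of_mem _ hh)
  exact exists_stem_model hstem jE.symm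

open scoped Classical in
/-- **Stemification**: a finite central extension `φ : P → Q` yields a stem extension of `Q`
whose kernel is isomorphic to `φ.ker ⊓ commutator P`. -/
theorem exists_stem {P : Type v} {Q : Type u} [Group P] [Group Q] [Finite P] (φ : P →* Q)
    (hs : Function.Surjective φ) (hc : φ.ker ≤ Subgroup.center P) :
    ∃ (Γ : Type u) (_ : Group Γ) (_ : Finite Γ) (σ : Γ →* Q), Cfsg.IsStemExtension σ ∧
      Nonempty (σ.ker ≃* ↥(φ.ker ⊓ commutator P)) := by
  let instW : CommGroup φ.ker :=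
    { (inferInstance : Group φ.ker) with
      mul_comm := fun a b => Subtype.ext ((Subgroup.mem_center_iff.1 (hc a.2) (b : P)).symm) }
  let T : Subgroup φ.ker := (commutator P).subgroupOf φ.ker
  let N : Subgroup (Hull φ.ker) := T.map (toHull φ.ker)
  let i : φ.ker ⧸ T →* Abelianization P := QuotientGroup.lift T (Abelianization.of.comp φ.ker.subtype)
    (fun w hw => MonoidHom.mem_ker.2 ((QuotientGroup.eq_one_iff _).2 (Subgroup.mem_subgroupOf.1 hw)))
  have hi : Function.Injective i := by
    rw [← MonoidHom.ker_eq_bot_iff, eq_bot_iff]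
    intro x hx
    obtain ⟨w, rfl⟩ := QuotientGroup.mk'_surjective T x
    exact Subgroup.mem_bot.2 ((QuotientGroup.eq_one_iff w).2
      (Subgroup.mem_subgroupOf.2 ((QuotientGroup.eq_one_iff (w : P)).1 (MonoidHom.mem_ker.1 hx))))
  obtain ⟨θ, hθ⟩ := exists_extension_hull_quot N i hi
    (QuotientGroup.map T N (toHull φ.ker) (fun w hw => Subgroup.mem_map_of_mem _ hw))
  exact exists_stem_of_twist φ hs hc (QuotientGroup.mk' N) (QuotientGroup.mk'_surjective N)
    (toHull φ.ker) (toHull_injective φ.ker) (θ.comp Abelianization.of)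
    (fun w => hθ (QuotientGroup.mk' T w))
    (fun c hc => by
      obtain ⟨t, ht, htc⟩ := Subgroup.mem_map.1 ((QuotientGroup.eq_one_iff c).1 hc)
      exact ⟨t, Subgroup.mem_subgroupOf.1 ht, htc⟩)

/-- Consequence: the multiplier maps onto `ker ⊓ commutator` of every finite central extension. -/
theorem exists_surj_central {G : Type u} [Group G] {A : Type w} [CommGroup A]
    (hA : Cfsg.HasSchurMultiplier G A) {P : Type v} [Group P] [Finite P] (φ : P →* G)
    (hs : Function.Surjective φ) (hc : φ.ker ≤ Subgroup.center P) :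
    ∃ π : A →* ↥(φ.ker ⊓ commutator P), Function.Surjective π := by
  obtain ⟨Γ, _, _, σ, hσ, ⟨e⟩⟩ := exists_stem φ hs hc
  obtain ⟨π, hπ⟩ := hA.2 Γ σ hσ
  exact ⟨e.toMonoidHom.comp π, e.surjective.comp hπ⟩

theorem inf_commutator_eq_bot_of_trivial {G : Type u} [Group G]
    (h : Cfsg.HasCyclicSchurMultiplier G 1) {P : Type v} [Group P] [Finite P] (φ : P →* G)
    (hs : Function.Surjective φ) (hc : φ.ker ≤ Subgroup.center P) :
    φ.ker ⊓ commutator P = ⊥ := by
  obtain ⟨π, hπ⟩ := exists_surj_central h φ hs hc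
  rw [eq_bot_iff]
  intro x hx
  obtain ⟨a, ha⟩ := hπ ⟨x, hx⟩
  rw [Subsingleton.elim (h := inferInstanceAs (Subsingleton (Fin 1))) a 1, map_one] at ha
  exact Subgroup.mem_bot.2 (congrArg Subtype.val ha).symm

end CfsgLib.Schur
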